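import Cfsg.Agent.S0126
import Cfsg.Agent.Solvable.FixedPointFree
import Cfsg.Agent.Prune
set_option linter.all false
prune_inst 0x7f00000000000000000000000000000000000000000000000000000000000000000000000000000000000000000000000000000000000000000000000000000000000000000000000000000000000000003fffffffffffffffffffffffffffbeffbdffffffff
open scoped Cfsg.Agent.FastGrp

/-!
# Cyclic Sylow subgroups of linear groups (helper124)

* `isCyclic_of_small` : `P` a `p`-group, `p` odd, `p` a divisor of `q ^ j - 1` exactly if `e ∣ j`, acting faithfully on a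
  vector space of dimension less than `2 e` over the field with `q` elements: `P` is cyclic.
* `isCyclic_sylow_of_gl` : the same for the Sylow subgroups of a group `K` which is the image of a group of matrices,
  the kernel having order prime to `p`.
-/

set_option autoImplicit false

namespace Cfsg.Agent.H124.LinCyc

open Subgroup Module

section

variable {F : Type*} [Field F] [Fintype F] {V : Type*} [AddCommGroup V] [Module F V] [Finite V]
  {A : Type*} [Group A] {p e : ℕ} [hp : Fact p.Prime]

/-- the fixed vectors of a group of linear maps -/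
def fix (σ : A →* (V ≃ₗ[F] V)) : Submodule F V where
  carrier := {v | ∀ a, σ a v = v}
  add_mem' := fun {v w} hv hw a => by rw [map_add, hv a, hw a]
  zero_mem' := fun a => map_zero _
  smul_mem' := fun c v hv a => by rw [map_smul, hv a]

omit [Finite V] in
theorem not_dvd_card (he : 0 < e) (hiff : ∀ j, p ∣ Fintype.card F ^ j - 1 ↔ e ∣ j) : ¬ p ∣ Fintype.card F := by
  intro h5
  have hq : 1 < Fintype.card F := Fintype.one_lt_card
  have h6 : p ∣ Fintype.card F ^ e - 1 := (hiff e).2 dvd_rfl
  have h7 : p ∣ Fintype.card F ^ e := dvd_pow h5 he.ne'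
  have h9 : 1 ≤ Fintype.card F ^ e := Nat.one_le_pow _ _ (by omega)
  have h10 := Nat.dvd_sub h7 h6
  rw [Nat.sub_sub_self h9] at h10
  exact hp.out.one_lt.ne' (Nat.dvd_one.1 h10)

/-- the dimension of the space of fixed vectors of a `p`-group -/
theorem dvd_sub (he : 0 < e) (hiff : ∀ j, p ∣ Fintype.card F ^ j - 1 ↔ e ∣ j) (hA : IsPGroup p A)
    (σ : A →* (V ≃ₗ[F] V)) : e ∣ finrank F V - finrank F (fix σ) := by
  let act : MulAction A V := MulAction.compHom V σ
  have h1 := hA.card_modEq_card_fixedPoints V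
  have h2 : Nat.card (MulAction.fixedPoints A V) = Nat.card (fix σ) := Nat.card_congr (Equiv.refl _)
  have hc1 : Nat.card V = Fintype.card F ^ finrank F V := by
    rw [Module.natCard_eq_pow_finrank (K := F) (V := V), Nat.card_eq_fintype_card]
  have hc2 : Nat.card (fix σ) = Fintype.card F ^ finrank F (fix σ) := by
    rw [Module.natCard_eq_pow_finrank (K := F) (V := fix σ), Nat.card_eq_fintype_card]
  rw [h2, hc1, hc2] at h1
  have hle : finrank F (fix σ) ≤ finrank F V := Submodule.finrank_le _
  have hq : 1 < Fintype.card F := Fintype.one_lt_card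
  rw [← hiff]
  have h3 : p ∣ Fintype.card F ^ finrank F V - Fintype.card F ^ finrank F (fix σ) :=
    (Nat.modEq_iff_dvd' (Nat.pow_le_pow_right hq.le hle)).1 h1.symm
  have h4 : Fintype.card F ^ finrank F V - Fintype.card F ^ finrank F (fix σ) =
      Fintype.card F ^ finrank F (fix σ) * (Fintype.card F ^ (finrank F V - finrank F (fix σ)) - 1) := by
    rw [Nat.mul_sub_one, ← pow_add, Nat.add_sub_cancel' hle]
  rw [h4, hp.out.dvd_mul] at h3
  rcases h3 with h3 | h3
  · exact absurd (hp.out.dvd_of_dvd_pow h3) (not_dvd_card he hiff)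
  · exact h3

/-- restriction to an invariant subspace -/
def restr (σ : A →* (V ≃ₗ[F] V)) (U : Submodule F V) (h : ∀ a, ∀ u ∈ U, σ a u ∈ U) : A →* (U ≃ₗ[F] U) where
  toFun a := LinearEquiv.ofLinearMap ((σ a).toLinearMap.restrict (fun u hu => h a u hu))
    ((σ a⁻¹).toLinearMap.restrict (fun u hu => h a⁻¹ u hu))
    (by
      ext u
      change σ a (σ a⁻¹ u) = u
      rw [← LinearEquiv.mul_apply, ← map_mul, mul_inv_cancel, map_one]; rfl)
    (by
      ext u
      change σ a⁻¹ (σ a u) = u
      rw [← LinearEquiv.mul_apply, ← map_mul, inv_mul_cancel, map_one]; rfl)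
  map_one' := by
    ext u
    change σ 1 u = u
    rw [map_one]; rfl
  map_mul' a b := by
    ext u
    change σ (a * b) u = σ a (σ b u)
    rw [map_mul]; rfl

omit [Fintype F] [Finite V] in
theorem restr_apply (σ : A →* (V ≃ₗ[F] V)) (U : Submodule F V) (h : ∀ a, ∀ u ∈ U, σ a u ∈ U) (a : A) (u : U) :
    (restr σ U h a u : V) = σ a u := rfl

/-- abelian groups -/
theorem isCyclic_of_comm_small [Finite A] (he : 0 < e) (hiff : ∀ j, p ∣ Fintype.card F ^ j - 1 ↔ e ∣ j)
    (hdim : finrank F V < 2 * e) (hA : IsPGroup p A) (hcomm : ∀ a b : A, a * b = b * a) (σ : A →* (V ≃ₗ[F] V))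
    (hσ : Function.Injective σ) (hexp : ∀ a : A, a ^ p = 1) : IsCyclic A := by
  by_cases hnt : Nontrivial A
  swap
  · rw [not_nontrivial_iff_subsingleton] at hnt
    infer_instance
  -- the fixed vectors of `x ≠ 1` are fixed by all elements
  have hfix : ∀ x : A, x ≠ 1 → ∀ v : V, σ x v = v → ∀ y, σ y v = v := by
    intro x hx v hv y
    let σx : zpowers x →* (V ≃ₗ[F] V) := σ.comp (zpowers x).subtype
    have hmem : ∀ v, σ x v = v → v ∈ fix σx := by
      rintro v hv ⟨a, k, rfl⟩
      change σ (x ^ k) v = v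
      rw [map_zpow]
      have h1 : σ x ∈ MulAction.stabilizer (V ≃ₗ[F] V) v := hv
      exact (MulAction.stabilizer (V ≃ₗ[F] V) v).zpow_mem h1 k
    have h1 : e ∣ finrank F V - finrank F (fix σx) := dvd_sub he hiff (hA.to_subgroup _) σx
    have h2 : finrank F (fix σx) < finrank F V := by
      rw [← finrank_top F V]
      apply Submodule.finrank_lt_finrank_of_lt
      rw [lt_top_iff_ne_top]
      intro h3
      apply hx
      apply hσ
      rw [map_one]
      ext w
      have h4 : w ∈ fix σx := by rw [h3]; trivial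
      exact h4 ⟨x, mem_zpowers x⟩
    have h3 : finrank F (fix σx) < e := by
      have := Nat.le_of_dvd (by omega) h1
      omega
    have hinv : ∀ a, ∀ u ∈ fix σx, σ a u ∈ fix σx := by
      intro a u hu b
      change σ (b : A) (σ a u) = σ a u
      rw [← LinearEquiv.mul_apply, ← map_mul, hcomm, map_mul, LinearEquiv.mul_apply]
      congr 1
      exact hu b
    have h4 := dvd_sub he hiff hA (restr σ (fix σx) hinv)
    have h5 : finrank F (fix σx) - finrank F (fix (restr σ (fix σx) hinv)) = 0 := by
      apply Nat.eq_zero_of_dvd_of_lt h4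
      omega
    have h6 : fix (restr σ (fix σx) hinv) = ⊤ := by
      apply Submodule.eq_top_of_finrank_eq
      apply le_antisymm (Submodule.finrank_le _)
      omega
    have h7 : (⟨v, hmem v hv⟩ : fix σx) ∈ fix (restr σ (fix σx) hinv) := by rw [h6]; trivial
    exact congrArg Subtype.val (h7 y)
  -- a subspace without fixed vectors
  obtain ⟨x, hx⟩ := exists_ne (1 : A)
  let Nx : V →ₗ[F] V := ∑ i ∈ Finset.range p, (σ (x ^ i)).toLinearMap
  have hNx : ∀ v, Nx v = ∑ i ∈ Finset.range p, σ (x ^ i) v := fun v => by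
    simp only [Nx, LinearMap.sum_apply, LinearEquiv.coe_coe]
  have hinvW : ∀ a, ∀ u ∈ LinearMap.ker Nx, σ a u ∈ LinearMap.ker Nx := by
    intro a u hu
    rw [LinearMap.mem_ker, hNx] at hu ⊢
    have h1 : ∀ i, σ (x ^ i) (σ a u) = σ a (σ (x ^ i) u) := fun i => by
      rw [← LinearEquiv.mul_apply, ← map_mul, hcomm, map_mul, LinearEquiv.mul_apply]
    rw [Finset.sum_congr rfl (fun i _ => h1 i), ← map_sum, hu, map_zero]
  have hpF : (p : F) ≠ 0 := by
    intro h
    obtain ⟨c, hc⟩ := CharP.exists F
    rw [CharP.cast_eq_zero_iff F c] at h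
    have hc1 : c ≠ 1 := CharP.char_ne_one F c
    have h2 : p = c := ((hp.out.eq_one_or_self_of_dvd c h).resolve_left hc1).symm
    subst h2
    apply not_dvd_card he hiff
    rw [← CharP.cast_eq_zero_iff F p]
    exact FiniteField.cast_card_eq_zero F
  -- `W ≠ 0`
  have hW : Nontrivial (LinearMap.ker Nx) := by
    have h1 : ∃ v, σ x v ≠ v := by
      by_contra h
      push Not at h
      apply hx
      apply hσ
      rw [map_one]
      ext v
      exact h v
    obtain ⟨v, hv⟩ := h1
    refine ⟨⟨⟨σ x v - v, ?_⟩, 0, ?_⟩⟩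
    · rw [LinearMap.mem_ker, hNx]
      have h2 : ∀ i, σ (x ^ i) (σ x v - v) = σ (x ^ (i + 1)) v - σ (x ^ i) v := fun i => by
        rw [map_sub, ← LinearEquiv.mul_apply, ← map_mul, ← pow_succ]
      rw [Finset.sum_congr rfl (fun i _ => h2 i), Finset.sum_range_sub (fun i => σ (x ^ i) v), hexp, pow_zero, sub_self]
    · intro h
      apply hv
      have := congrArg Subtype.val h
      exact sub_eq_zero.1 this
  let φ : A →* AddMonoid.End (LinearMap.ker Nx) :=
    { toFun := fun a => (restr σ (LinearMap.ker Nx) hinvW a).toLinearMap.toAddMonoidHom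
      map_one' := by ext u; rw [map_one]; rfl
      map_mul' := fun a b => by ext u; rw [map_mul]; rfl }
  let _ : CommGroup A := { (inferInstance : Group A) with mul_comm := hcomm }
  refine Cfsg.Agent.Solvable.FixedPointFree.isCyclic_of_comm φ fun a ha m hm => ?_
  have h1 : σ a m = m := congrArg Subtype.val hm
  have h2 := hfix a ha m h1
  have h3 := m.2
  rw [LinearMap.mem_ker, hNx, Finset.sum_congr rfl (fun i _ => h2 (x ^ i)), Finset.sum_const, Finset.card_range,
    ← Nat.cast_smul_eq_nsmul F, smul_eq_zero] at h3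
  exact Subtype.ext (h3.resolve_left hpF)

/-- **Cyclic `p`-subgroups of linear groups of small dimension.** -/
theorem isCyclic_of_small [Finite A] (hp2 : p ≠ 2) (he : 0 < e) (hiff : ∀ j, p ∣ Fintype.card F ^ j - 1 ↔ e ∣ j)
    (hdim : finrank F V < 2 * e) (hA : IsPGroup p A) (σ : A →* (V ≃ₗ[F] V))
    (hσ : Function.Injective σ) : IsCyclic A := by
  by_contra hnc
  obtain ⟨E, -, hE, hcE⟩ := S0126.result hp2 hA hnc
  have h1 : IsCyclic E := isCyclic_of_comm_small he hiff hdim (hA.to_subgroup E)
    (fun a b => hE.1.is_comm.comm a b) (σ.comp E.subtype) (hσ.comp E.subtype_injective)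
    (fun a => Subtype.ext (hE.2 a a.2))
  obtain ⟨g, hg⟩ := h1.exists_generator
  have h2 : orderOf g = p ^ 2 := by rw [← hcE, orderOf_eq_card_of_forall_mem_zpowers hg]
  have h3 : orderOf g ∣ p := orderOf_dvd_of_pow_eq_one (Subtype.ext (hE.2 g g.2))
  rw [h2] at h3
  have h4 := Nat.le_of_dvd hp.out.pos h3
  have := hp.out.one_lt
  nlinarith

end

/-! ### Sylow subgroups of images of matrix groups -/

section

variable {F : Type*} [Field F] [Fintype F] {ι : Type*} [Fintype ι] [DecidableEq ι] {p e : ℕ} [hp : Fact p.Prime]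

/-- `p`-groups of matrices -/
theorem isCyclic_of_gl {A : Type*} [Group A] [Finite A] (hp2 : p ≠ 2) (he : 0 < e)
    (hiff : ∀ j, p ∣ Fintype.card F ^ j - 1 ↔ e ∣ j) (hdim : Fintype.card ι < 2 * e) (hA : IsPGroup p A)
    (σ : A →* Matrix.GeneralLinearGroup ι F) (hσ : Function.Injective σ) : IsCyclic A := by
  let τ : Matrix.GeneralLinearGroup ι F ≃* ((ι → F) ≃ₗ[F] (ι → F)) :=
    Matrix.GeneralLinearGroup.toLin.trans (LinearMap.GeneralLinearGroup.generalLinearEquiv F (ι → F))
  exact isCyclic_of_small (V := ι → F) hp2 he hiff (by rw [Module.finrank_fintype_fun_eq_card]; exact hdim) hA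
    (τ.toMonoidHom.comp σ) (τ.injective.comp hσ)

/-- **Sylow subgroups of a quotient of a matrix group by a group of order prime to `p`.** -/
theorem isCyclic_sylow_of_gl {X K : Type*} [Group X] [Group K] [Finite X] [Finite K] (hp2 : p ≠ 2) (he : 0 < e)
    (hiff : ∀ j, p ∣ Fintype.card F ^ j - 1 ↔ e ∣ j) (hdim : Fintype.card ι < 2 * e)
    (σ : X →* Matrix.GeneralLinearGroup ι F) (hσ : Function.Injective σ) (π : X →* K) (hπ : Function.Surjective π)
    (P : Sylow p K) : IsCyclic P := by
  -- a Sylow subgroup of `X` over `P`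
  obtain ⟨Q⟩ : Nonempty (Sylow p X) := inferInstance
  have hQ : IsCyclic Q := isCyclic_of_gl hp2 he hiff hdim Q.isPGroup' (σ.comp (Q : Subgroup X).subtype)
    (hσ.comp (Q : Subgroup X).subtype_injective)
  have h1 : IsCyclic (Q.mapSurjective hπ : Subgroup K) := by
    have h2 : ((Q.mapSurjective hπ : Sylow p K) : Subgroup K) = (Q : Subgroup X).map π := rfl
    rw [h2]
    exact isCyclic_of_surjective (π.subgroupMap (Q : Subgroup X)) (π.subgroupMap_surjective _)
  exact isCyclic_of_surjective ((Q.mapSurjective hπ).equiv P).toMonoidHom ((Q.mapSurjective hπ).equiv P).surjective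

end

end Cfsg.Agent.H124.LinCyc
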