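import Cfsg.Agent.LieClassical.HermSiegel
import Cfsg.Agent.LieClassical.GUOrder
import Cfsg.Agent.FastGrp
import Cfsg.Agent.Prune
set_option linter.all false
prune_inst 0x7f00000000000000000000000000000000000000000000000000000000000000000000000000000000000000000000000000000000000000000000000000000000000000000000000000000000000000003fffffffffffffffffffffffffffbeffbdffffffff
open scoped Cfsg.Agent.FastGrp

/-!
# Orders of the elements of `PSU_3(q)`: upper bound

The eigenvalues of `g ∈ SU_3(q)` in an algebraic closure are permuted by `x ↦ x ^ (-q)`; hence one of the powers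
`g ^ (q + 1)`, `g ^ (p (q + 1) / d)`, `g ^ ((q² - 1) / d)`, `g ^ ((q² - q + 1) / d)` (or `g ^ 4`, `p = 2`) is scalar,
`d = gcd(3, q + 1)`.
-/

set_option autoImplicit false

namespace Cfsg.Agent.H124.SUThreeEig

open Matrix Polynomial Cfsg Cfsg.Agent.LieClassical.HermBasic
open Cfsg.Agent.LieClassical.GUOrder (frob frob_apply mul_map_eq_one_iff)

section arith

/-- the map `x ↦ x ^ (-q)` -/
def ph {L : Type*} [Field L] (q : ℕ) (x : L) : L := (x ^ q)⁻¹

variable {L : Type*} [Field L] {q : ℕ}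

theorem ph_mul (x y : L) : ph q (x * y) = ph q x * ph q y := by
  simp only [ph, mul_pow, mul_inv]

theorem ph_one : ph q (1 : L) = 1 := by simp [ph]

theorem ph_pow (x : L) (k : ℕ) : ph q (x ^ k) = ph q x ^ k := by
  simp only [ph, ← inv_pow, ← pow_mul]
  rw [mul_comm]

theorem ph_fix {x : L} (hx : x ≠ 0) : ph q x = x ↔ x ^ (q + 1) = 1 := by
  rw [ph, pow_succ]
  constructor
  · intro h
    nth_rw 2 [← h]
    exact mul_inv_cancel₀ (pow_ne_zero _ hx)
  · exact fun h => inv_eq_of_mul_eq_one_right h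

/-- the `k`-th powers agree -/
def Eqk (k : ℕ) (α β γ : L) : Prop := α ^ k = β ^ k ∧ β ^ k = γ ^ k

theorem Eqk.perm₁ {k : ℕ} {α β γ : L} (h : Eqk k α β γ) : Eqk k β α γ := ⟨h.1.symm, h.1.trans h.2⟩
theorem Eqk.perm₂ {k : ℕ} {α β γ : L} (h : Eqk k α β γ) : Eqk k α γ β := ⟨h.1.trans h.2, h.2.symm⟩

theorem case_id {α β γ : L} (hα : α ≠ 0) (hβ : β ≠ 0) (hγ : γ ≠ 0) (h1 : ph q α = α) (h2 : ph q β = β)
    (h3 : ph q γ = γ) : Eqk (q + 1) α β γ := by
  rw [ph_fix hα] at h1
  rw [ph_fix hβ] at h2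
  rw [ph_fix hγ] at h3
  exact ⟨by rw [h1, h2], by rw [h2, h3]⟩

/-- a transposition -/
theorem case_tr (hq : 2 ≤ q) {α β γ : L} (hα : α ≠ 0) (h1 : ph q α = β) (h2 : ph q β = α)
    (hd : α * β * γ = 1) {d : ℕ} (hd1 : d ∣ q + 1) (hd3 : d ∣ 3) : Eqk ((q ^ 2 - 1) / d) α β γ := by
  have hβ : β * α ^ q = 1 := by
    rw [← h1, ph, inv_mul_cancel₀ (pow_ne_zero _ hα)]
  have hq2 : α ^ (q ^ 2 - 1) = 1 := by
    have h3 : α ^ (q ^ 2) = α := by
      rw [sq, pow_mul]
      have h4 : α ^ q = β⁻¹ := (inv_eq_of_mul_eq_one_right hβ).symm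
      rw [h4, inv_pow]
      exact h2
    have h5 : α ^ (q ^ 2 - 1) * α = 1 * α := by
      rw [← pow_succ, Nat.sub_add_cancel (by nlinarith only [hq]), h3, one_mul]
    exact mul_right_cancel₀ hα h5
  have hγ : γ = α ^ (q - 1) := by
    have h3 : α * γ = α ^ q := by
      calc α * γ = (α * β * γ) * α ^ q := by
            calc α * γ = α * γ * (β * α ^ q) := by rw [hβ, mul_one]
              _ = _ := by ring
        _ = _ := by rw [hd, one_mul]
    have h4 : α * γ = α * α ^ (q - 1) := by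
      rw [h3, ← pow_succ', Nat.sub_add_cancel (by omega)]
    exact mul_left_cancel₀ hα h4
  have hdq : d ∣ q ^ 2 - 1 := by
    have h6 : q ^ 2 - 1 = (q + 1) * (q - 1) := by
      rw [Nat.sub_eq_iff_eq_add (by nlinarith only [hq])]
      obtain ⟨m, rfl⟩ : ∃ m, q = m + 1 := ⟨q - 1, by omega⟩
      simp only [Nat.add_sub_cancel]
      ring
    rw [h6]
    exact hd1.mul_right _
  obtain ⟨k, hk⟩ := hdq
  have hd0 : 0 < d := Nat.pos_of_dvd_of_pos hd3 (by norm_num)
  rw [hk, Nat.mul_div_cancel_left _ hd0]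
  have key : ∀ n, d ∣ n → α ^ (n * k) = 1 := by
    rintro n ⟨m, rfl⟩
    rw [mul_right_comm, ← hk, pow_mul, hq2, one_pow]
  have hk1 := key (q + 1) hd1
  have hk2 : α ^ ((q - 2) * k) = 1 := by
    apply key
    have h7 : q - 2 = (q + 1) - 3 := by omega
    rw [h7]
    exact Nat.dvd_sub hd1 hd3
  constructor
  · have h8 : β ^ k * α ^ (q * k) = 1 := by
      rw [pow_mul, ← mul_pow, hβ, one_pow]
    have h9 : α ^ k * α ^ (q * k) = 1 := by
      rw [← pow_add, ← hk1]
      congr 1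
      ring
    exact mul_right_cancel₀ (pow_ne_zero _ hα) (h9.trans h8.symm)
  · have h8 : β ^ k * α ^ (q * k) = 1 := by
      rw [pow_mul, ← mul_pow, hβ, one_pow]
    have h9 : γ ^ k * α ^ (q * k) = 1 := by
      rw [hγ, ← pow_mul, ← pow_add]
      have h10 : (q - 1) * k + q * k = (q - 2) * k + (q + 1) * k := by
        rw [← add_mul, ← add_mul]
        congr 1
        omega
      rw [h10, pow_add, hk2, hk1, one_mul]
    exact mul_right_cancel₀ (pow_ne_zero _ hα) (h8.trans h9.symm)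

theorem dvd_quad {q d : ℕ} (hd1 : d ∣ q + 1) (hd3 : d ∣ 3) : d ∣ q ^ 2 - q + 1 := by
  have hle : q ≤ q ^ 2 := by
    rcases Nat.eq_zero_or_pos q with rfl | h
    · simp
    · nlinarith
  have h1 : d ∣ (q ^ 2 - q + 1) + 3 * q := by
    have h2 : (q ^ 2 - q + 1) + 3 * q = (q + 1) * (q + 1) := by
      have h3 : (q + 1) * (q + 1) = q ^ 2 + 2 * q + 1 := by ring
      omega
    rw [h2]
    exact hd1.mul_right _
  exact (Nat.dvd_add_left (hd3.mul_right _)).1 h1

/-- a three-cycle -/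
theorem case_cyc {α β γ : L} (hα : α ≠ 0) (h1 : ph q α = β) (h2 : ph q β = γ)
    (hd : α * β * γ = 1) {d : ℕ} (hd1 : d ∣ q + 1) (hd3 : d ∣ 3) : Eqk ((q ^ 2 - q + 1) / d) α β γ := by
  have hβ : β * α ^ q = 1 := by
    rw [← h1, ph, inv_mul_cancel₀ (pow_ne_zero _ hα)]
  have hγ : γ = α ^ (q ^ 2) := by
    rw [← h2, ph]
    have h4 : β = (α ^ q)⁻¹ := h1.symm
    rw [h4, inv_pow, inv_inv, ← pow_mul, sq]
  have hle : q ≤ q ^ 2 := by
    rcases Nat.eq_zero_or_pos q with rfl | h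
    · simp
    · nlinarith only []
  have hQ : α ^ (q ^ 2 - q + 1) = 1 := by
    have h3 : α ^ (q ^ 2 - q + 1) * α ^ q = 1 * α ^ q := by
      rw [← pow_add, show q ^ 2 - q + 1 + q = q ^ 2 + 1 by omega, pow_succ, ← hγ, one_mul]
      calc γ * α = (γ * α) * (β * α ^ q) := by rw [hβ, mul_one]
        _ = (α * β * γ) * α ^ q := by ring
        _ = α ^ q := by rw [hd, one_mul]
    exact mul_right_cancel₀ (pow_ne_zero _ hα) h3
  have hab : ∀ k, α ^ ((q + 1) * k) = 1 → Eqk k α β γ := by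
    intro k hk
    have h8 : β ^ k * α ^ (q * k) = 1 := by
      rw [pow_mul, ← mul_pow, hβ, one_pow]
    have h9 : α ^ k * α ^ (q * k) = 1 := by
      rw [← pow_add, ← hk]
      congr 1
      ring
    have h10 : α ^ k = β ^ k := mul_right_cancel₀ (pow_ne_zero _ hα) (h9.trans h8.symm)
    refine ⟨h10, ?_⟩
    have h11 := congrArg (ph q) h10
    rw [ph_pow, ph_pow, h1, h2] at h11
    exact h11
  obtain ⟨m, hm⟩ := dvd_quad hd1 hd3
  have hd0 : 0 < d := Nat.pos_of_dvd_of_pos hd3 (by norm_num)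
  apply hab
  obtain ⟨n, hn⟩ := hd1
  rw [hm, Nat.mul_div_cancel_left _ hd0, hn, mul_right_comm, ← hm, pow_mul, hQ, one_pow]

end arith

section root

variable {F : Type*} [Field F] [Fintype F] {q n : ℕ} {L : Type*} [Field L] [Algebra F L]

/-- The eigenvalues of a unitary matrix are permuted by `x ↦ x ^ (-q)`. -/
theorem root_ph (hF : Fintype.card F = q ^ 2) {M : Matrix (Fin n) (Fin n) F}
    (hM : Mᵀ * M.map (frob hF) = 1) {α : L} (hα : α ≠ 0)
    (h : (M.map (algebraMap F L)).charpoly.IsRoot α) :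
    (M.map (algebraMap F L)).charpoly.IsRoot (ph q α) := by
  obtain ⟨p, k, hp, hchar, hk, -⟩ := exists_prime_pow hF
  have : Fact p.Prime := ⟨hp⟩
  have hcL : CharP L p := charP_of_injective_algebraMap (algebraMap F L).injective p
  have hcE : ExpChar L p := ExpChar.prime hp
  set N := M.map (algebraMap F L) with hN
  set fr : L →+* L := iterateFrobenius L p k with hfr
  have hfrx : ∀ x, fr x = x ^ q := fun x => by rw [hfr, iterateFrobenius_def, ← hk]
  have hN2 : Nᵀ * N.map fr = 1 := by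
    have h1 : N.map fr = (M.map (frob hF)).map (algebraMap F L) := by
      ext i j
      simp only [hN, map_apply, hfrx, frob_apply, map_pow]
    have h2 : Nᵀ = Mᵀ.map (algebraMap F L) := rfl
    rw [h1, h2, ← Matrix.map_mul, hM, Matrix.map_one _ (map_zero _) (map_one _)]
  rw [IsRoot.def, eval_charpoly] at h ⊢
  have h3 : (scalar (Fin n) (α ^ q) - N.map fr).det = 0 := by
    have h4 := congrArg fr h
    rw [RingHom.map_det, map_zero] at h4
    rw [← h4, _root_.map_sub, RingHom.mapMatrix_apply, RingHom.mapMatrix_apply, scalar_apply, scalar_apply,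
      diagonal_map (map_zero fr), hfrx]
  have h5 : (Nᵀ * (scalar (Fin n) (α ^ q) - N.map fr)).det = 0 := by rw [det_mul, h3, mul_zero]
  have h6 : Nᵀ * (scalar (Fin n) (α ^ q) - N.map fr) = (α ^ q) • Nᵀ - 1 := by
    rw [mul_sub, hN2, scalar_apply, ← smul_one_eq_diagonal, mul_smul_comm, mul_one]
  rw [h6] at h5
  have h7 : scalar (Fin n) (ph q α) - N = (-(α ^ q)⁻¹) • ((α ^ q) • Nᵀ - 1)ᵀ := by
    rw [transpose_sub, transpose_smul, transpose_transpose, transpose_one, smul_sub, smul_smul, neg_mul,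
      inv_mul_cancel₀ (pow_ne_zero _ hα), scalar_apply, ← smul_one_eq_diagonal, ph]
    simp only [neg_smul, one_smul]
    abel
  rw [h7, det_smul, det_transpose, h5, mul_zero]

end root

section three

variable {L : Type*} [Field L] {N : Matrix (Fin 3) (Fin 3) L}

theorem pow_of_dvd {k : ℕ} {c : L} (h : N.charpoly ∣ X ^ k - C c) : N ^ k = c • (1 : Matrix (Fin 3) (Fin 3) L) := by
  obtain ⟨P, hP⟩ := h
  have h1 := congrArg (aeval N) hP
  rw [map_mul, aeval_self_charpoly, zero_mul, _root_.map_sub, map_pow, aeval_X, aeval_C, Algebra.algebraMap_eq_smul_one] at h1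
  exact sub_eq_zero.1 h1

theorem X_sub_dvd (k : ℕ) (α : L) : (X - C α) ∣ X ^ k - C (α ^ k) := by
  rw [C_pow]
  exact sub_dvd_pow_sub_pow _ _ _

theorem X_sub_dvd' {k : ℕ} {α c : L} (h : α ^ k = c) : (X - C α) ∣ X ^ k - C c := by
  rw [← h]
  exact X_sub_dvd k α

theorem cop {α β : L} (h : α ≠ β) : IsCoprime (X - C α) (X - C β) :=
  isCoprime_X_sub_C_of_isUnit_sub (sub_ne_zero.2 h).isUnit

/-- three distinct eigenvalues -/
theorem pow_of_distinct {α β γ : L} (hN : N.charpoly = (X - C α) * (X - C β) * (X - C γ)) (h1 : α ≠ β) (h2 : β ≠ γ)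
    (h3 : α ≠ γ) {k : ℕ} (h : Eqk k α β γ) : N ^ k = (α ^ k) • (1 : Matrix (Fin 3) (Fin 3) L) := by
  apply pow_of_dvd
  rw [hN]
  exact ((cop h3).mul_left (cop h2)).mul_dvd ((cop h1).mul_dvd (X_sub_dvd k α) (X_sub_dvd' h.1.symm))
    (X_sub_dvd' (h.1.trans h.2).symm)

/-- two distinct eigenvalues -/
theorem pow_of_double {p : ℕ} [Fact p.Prime] [CharP L p] {α γ : L}
    (hN : N.charpoly = (X - C α) * (X - C α) * (X - C γ)) (h1 : α ≠ γ) {k : ℕ} (h : α ^ k = γ ^ k) :
    N ^ (p * k) = (α ^ (p * k)) • (1 : Matrix (Fin 3) (Fin 3) L) := by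
  apply pow_of_dvd
  have h2 : (X : L[X]) ^ (p * k) - C (α ^ (p * k)) = (X ^ k - C (α ^ k)) ^ p := by
    rw [sub_pow_char, mul_comm p k, pow_mul, pow_mul, C_pow]
  rw [h2, hN]
  have hp : 2 ≤ p := (Fact.out : p.Prime).two_le
  have h3 : (X - C α) * (X - C γ) ∣ X ^ k - C (α ^ k) := (cop h1).mul_dvd (X_sub_dvd k α) (X_sub_dvd' h.symm)
  have h4 : ((X - C α) * (X - C γ)) ^ 2 ∣ (X ^ k - C (α ^ k)) ^ p :=
    (pow_dvd_pow_of_dvd h3 2).trans (pow_dvd_pow _ hp)
  refine Dvd.dvd.trans ⟨X - C γ, ?_⟩ h4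
  ring

/-- one eigenvalue -/
theorem pow_of_triple {p : ℕ} [Fact p.Prime] [CharP L p] {α : L}
    (hN : N.charpoly = (X - C α) * (X - C α) * (X - C α)) {k : ℕ} (hk : (p ≠ 2 ∧ k = p) ∨ (p = 2 ∧ k = 4)) :
    N ^ k = (α ^ k) • (1 : Matrix (Fin 3) (Fin 3) L) := by
  apply pow_of_dvd
  have hp2 : 2 ≤ p := (Fact.out : p.Prime).two_le
  have hk3 : 3 ≤ k := by omega
  have h2 : (X : L[X]) ^ k - C (α ^ k) = (X - C α) ^ k := by
    rcases hk with ⟨h1, rfl⟩ | ⟨h1, rfl⟩
    · rw [sub_pow_char, C_pow]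
    · subst h1
      rw [show 4 = 2 ^ 2 by norm_num, sub_pow_char_pow, C_pow]
  rw [h2, hN, ← pow_two, ← pow_succ]
  exact pow_dvd_pow _ hk3

theorem ph_inj {q : ℕ} {α β : L} (hq : ∀ x y : L, x ^ q = y ^ q → x = y) (h : ph q α = ph q β) : α = β :=
  hq _ _ (inv_injective h)

/-- the scalar powers of a matrix with the eigenvalues `α, β, γ` -/
theorem exists_pow {p : ℕ} [Fact p.Prime] [CharP L p] {q : ℕ} (hq2 : 2 ≤ q)
    (hq : ∀ x y : L, x ^ q = y ^ q → x = y) {α β γ : L} (hα : α ≠ 0) (hβ : β ≠ 0) (hγ : γ ≠ 0)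
    (hN : N.charpoly = (X - C α) * (X - C β) * (X - C γ)) (hd : α * β * γ = 1)
    (h1 : ph q α = α ∨ ph q α = β ∨ ph q α = γ) (h2 : ph q β = α ∨ ph q β = β ∨ ph q β = γ)
    (h3 : ph q γ = α ∨ ph q γ = β ∨ ph q γ = γ) :
    ∃ k, (k = q + 1 ∨ k = p * ((q + 1) / Nat.gcd 3 (q + 1)) ∨ k = (q ^ 2 - 1) / Nat.gcd 3 (q + 1) ∨
      k = (q ^ 2 - q + 1) / Nat.gcd 3 (q + 1) ∨ (p = 2 ∧ k = 4)) ∧
      ∃ c : L, N ^ k = c • (1 : Matrix (Fin 3) (Fin 3) L) := by
  have hd1 : Nat.gcd 3 (q + 1) ∣ q + 1 := Nat.gcd_dvd_right _ _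
  have hd3 : Nat.gcd 3 (q + 1) ∣ 3 := Nat.gcd_dvd_left _ _
  have hd0 : 0 < Nat.gcd 3 (q + 1) := Nat.gcd_pos_of_pos_left _ (by norm_num)
  -- the double case
  have dbl : ∀ α γ : L, α ≠ 0 → γ ≠ 0 → α ≠ γ → N.charpoly = (X - C α) * (X - C α) * (X - C γ) →
      α * α * γ = 1 → (ph q α = α ∨ ph q α = γ) → (ph q γ = α ∨ ph q γ = γ) →
      ∃ k, (k = q + 1 ∨ k = p * ((q + 1) / Nat.gcd 3 (q + 1)) ∨ k = (q ^ 2 - 1) / Nat.gcd 3 (q + 1) ∨
      k = (q ^ 2 - q + 1) / Nat.gcd 3 (q + 1) ∨ (p = 2 ∧ k = 4)) ∧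
      ∃ c : L, N ^ k = c • (1 : Matrix (Fin 3) (Fin 3) L) := by
    intro α γ hα hγ hne hN hd h1 h2
    have hfix : ph q α = α := by
      rcases h1 with h1 | h1
      · exact h1
      · exfalso
        rcases h2 with h2 | h2
        · have h4 := congrArg (ph q) hd
          rw [ph_mul, ph_mul, h1, h2, ph_one] at h4
          apply hne
          have h5 : (α * γ) * α = (α * γ) * γ := by
            calc (α * γ) * α = α * α * γ := by ring
              _ = γ * γ * α := by rw [hd, h4]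
              _ = _ := by ring
          exact mul_left_cancel₀ (mul_ne_zero hα hγ) h5
        · exact hne (ph_inj hq (h1.trans h2.symm))
    rw [ph_fix hα] at hfix
    refine ⟨_, Or.inr (Or.inl rfl), _, pow_of_double hN hne ?_⟩
    set k := (q + 1) / Nat.gcd 3 (q + 1) with hk
    have h5 : α ^ (3 * k) = 1 := by
      obtain ⟨m, hm⟩ := hd3
      have h6 : 3 * k = (q + 1) * m := by
        calc 3 * k = (Nat.gcd 3 (q + 1) * m) * k := by rw [← hm]
          _ = (Nat.gcd 3 (q + 1) * ((q + 1) / Nat.gcd 3 (q + 1))) * m := by rw [hk]; ring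
          _ = _ := by rw [Nat.mul_div_cancel' hd1]
      rw [h6, pow_mul, hfix, one_pow]
    have h6 : (α * α * γ) ^ k = 1 := by rw [hd, one_pow]
    have h7 : (α ^ k * α ^ k) * α ^ k = (α ^ k * α ^ k) * γ ^ k := by
      calc (α ^ k * α ^ k) * α ^ k = α ^ (3 * k) := by rw [← pow_add, ← pow_add]; congr 1; ring
        _ = (α * α * γ) ^ k := by rw [h5, h6]
        _ = _ := by rw [mul_pow, mul_pow]
    exact mul_left_cancel₀ (mul_ne_zero (pow_ne_zero _ hα) (pow_ne_zero _ hα)) h7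
  by_cases e1 : α = β
  · subst e1
    by_cases e2 : α = γ
    · subst e2
      by_cases hp : p = 2
      · exact ⟨4, by simp only [hp, _root_.Nat.reduceEqDiff, _root_.and_self, _root_.or_true], _, pow_of_triple hN (Or.inr ⟨hp, rfl⟩)⟩
      · obtain ⟨k, hk⟩ := hd1
        refine ⟨_, Or.inr (Or.inl rfl), (α ^ p) ^ ((q + 1) / Nat.gcd 3 (q + 1)), ?_⟩
        rw [pow_mul, pow_of_triple hN (Or.inl ⟨hp, rfl⟩), _root_.smul_pow, one_pow]
    · exact dbl α γ hα hγ e2 hN hd (by (clear * - h2; tauto)) (by (clear * - h3; tauto))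
  · by_cases e2 : α = γ
    · subst e2
      exact dbl α β hα hβ e1 (by rw [hN]; ring) (by rw [← hd]; ring) (by (clear * - h3; tauto)) (by (clear * - h2; tauto))
    · by_cases e3 : β = γ
      · subst e3
        exact dbl β α hβ hα (Ne.symm e1) (by rw [hN]; ring) (by rw [← hd]; ring) (by (clear * - h3; tauto)) (by (clear * - h1; tauto))
      · have fin : ∀ k, Eqk k α β γ → ∃ c : L, N ^ k = c • (1 : Matrix (Fin 3) (Fin 3) L) :=
          fun k hk => ⟨_, pow_of_distinct hN e1 e3 e2 hk⟩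
        have hdl : ∀ {a b : L}, ph q a = ph q b → a = b := fun h => ph_inj hq h
        rcases h1 with h1 | h1 | h1 <;> rcases h2 with h2 | h2 | h2 <;> rcases h3 with h3 | h3 | h3
        all_goals first
          | exact absurd (hdl (h1.trans h2.symm)) e1
          | exact absurd (hdl (h1.trans h3.symm)) e2
          | exact absurd (hdl (h2.trans h3.symm)) e3
          | exact ⟨_, Or.inl rfl, fin _ (case_id hα hβ hγ h1 h2 h3)⟩
          | exact ⟨_, Or.inr (Or.inr (Or.inl rfl)), fin _ (case_tr hq2 hα h1 h2 hd hd1 hd3)⟩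
          | exact ⟨_, Or.inr (Or.inr (Or.inl rfl)), fin _
              (case_tr hq2 hα h1 h3 (by rw [← hd]; ring) hd1 hd3).perm₂⟩
          | exact ⟨_, Or.inr (Or.inr (Or.inl rfl)), fin _
              (case_tr hq2 hβ h2 h3 (by rw [← hd]; ring) hd1 hd3).perm₂.perm₁⟩
          | exact ⟨_, Or.inr (Or.inr (Or.inr (Or.inl rfl))), fin _ (case_cyc hα h1 h2 hd hd1 hd3)⟩
          | exact ⟨_, Or.inr (Or.inr (Or.inr (Or.inl rfl))), fin _
              (case_cyc hα h1 h3 (by rw [← hd]; ring) hd1 hd3).perm₂⟩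

end three

section group

variable {F : Type*} [Field F] [Fintype F] {q : ℕ}

open Cfsg.Agent.LieClassical.HermSiegel

omit [Fintype F] in
theorem mat_pow (g : SU 3 F q) (k : ℕ) : mat (g ^ k) = mat g ^ k := by
  induction k with
  | zero => rw [pow_zero, pow_zero, mat_one]
  | succ k ih => rw [pow_succ, pow_succ, mat_mul, ih]

omit [Fintype F] in
/-- scalar elements are central -/
theorem mem_center_of {g : SU 3 F q} {c : F} (h : mat g = c • (1 : Matrix (Fin 3) (Fin 3) F)) :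
    g ∈ Subgroup.center (SU 3 F q) := by
  rw [Subgroup.mem_center_iff]
  intro x
  apply mat_injective
  rw [mat_mul, mat_mul, h, mul_smul_comm, smul_mul_assoc, mul_one, one_mul]

/-- a matrix over `F` which is scalar over an extension is scalar -/
theorem scalar_descend {L : Type*} [Field L] [Algebra F L] {M : Matrix (Fin 3) (Fin 3) F} {c : L}
    (h : M.map (algebraMap F L) = c • (1 : Matrix (Fin 3) (Fin 3) L)) :
    M = (M 0 0) • (1 : Matrix (Fin 3) (Fin 3) F) := by
  have hinj := (algebraMap F L).injective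
  have h1 : ∀ i j, algebraMap F L (M i j) = c * (1 : Matrix (Fin 3) (Fin 3) L) i j := fun i j =>
    congrFun (congrFun h i) j
  ext i j
  rw [Matrix.smul_apply, smul_eq_mul]
  by_cases hij : i = j
  · subst hij
    apply hinj
    rw [h1, one_apply_eq, one_apply_eq, mul_one, mul_one, h1, one_apply_eq, mul_one]
  · apply hinj
    rw [h1, one_apply_ne hij, one_apply_ne hij, mul_zero, mul_zero, map_zero]

/-- **Upper bound for the element orders of `PSU_3(q)`.** -/
theorem exists_pow_center (hF : Fintype.card F = q ^ 2) (p : ℕ) [Fact p.Prime] [CharP F p] (g : SU 3 F q) :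
    ∃ k, (k = q + 1 ∨ k = p * ((q + 1) / Nat.gcd 3 (q + 1)) ∨ k = (q ^ 2 - 1) / Nat.gcd 3 (q + 1) ∨
      k = (q ^ 2 - q + 1) / Nat.gcd 3 (q + 1) ∨ (p = 2 ∧ k = 4)) ∧ g ^ k ∈ Subgroup.center (SU 3 F q) := by
  classical
  have hcL : CharP (AlgebraicClosure F) p :=
    charP_of_injective_algebraMap (algebraMap F (AlgebraicClosure F)).injective p
  set N := (mat g).map (algebraMap F (AlgebraicClosure F)) with hN
  have hM : (mat g)ᵀ * (mat g).map (frob hF) = 1 := (mul_map_eq_one_iff hF (mat g)).1 (fun u v => g.2 u v)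
  have hsp : N.charpoly.Splits := IsAlgClosed.splits _
  have hmon := N.charpoly_monic
  have hcard : N.charpoly.roots.card = 3 := by
    rw [← hsp.natDegree_eq_card_roots, charpoly_natDegree_eq_dim, Fintype.card_fin]
  obtain ⟨α, β, γ, hr⟩ := Multiset.card_eq_three.1 hcard
  have hprod : N.charpoly = (X - C α) * (X - C β) * (X - C γ) := by
    rw [hsp.eq_prod_roots_of_monic hmon, hr]
    simp only [Multiset.insert_eq_cons, Multiset.map_cons, Multiset.map_singleton, Multiset.prod_cons,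
      Multiset.prod_singleton]
    ring
  have hdet : α * β * γ = 1 := by
    have h1 : N.det = N.charpoly.roots.prod := det_eq_prod_roots_charpoly N
    rw [hr] at h1
    simp only [Multiset.insert_eq_cons, Multiset.prod_cons, Multiset.prod_singleton] at h1
    have h2 : N.det = 1 := by
      have h3 : N = (algebraMap F (AlgebraicClosure F)).mapMatrix (mat g) := rfl
      rw [h3, ← RingHom.map_det, det_mat, map_one]
    rw [← h2, h1]
    ring
  have hα : α ≠ 0 := by rintro rfl; rw [zero_mul, zero_mul] at hdet; exact zero_ne_one hdet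
  have hβ : β ≠ 0 := by rintro rfl; rw [mul_zero, zero_mul] at hdet; exact zero_ne_one hdet
  have hγ : γ ≠ 0 := by rintro rfl; rw [mul_zero] at hdet; exact zero_ne_one hdet
  have hroot : ∀ x, N.charpoly.IsRoot x ↔ x = α ∨ x = β ∨ x = γ := by
    intro x
    rw [hprod, IsRoot.def, eval_mul, eval_mul, eval_sub, eval_sub, eval_sub, eval_X, eval_C, eval_C, eval_C,
      mul_eq_zero, mul_eq_zero, sub_eq_zero, sub_eq_zero, sub_eq_zero, or_assoc]
  have hq : ∀ x y : AlgebraicClosure F, x ^ q = y ^ q → x = y := by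
    obtain ⟨p', k, hp', hchar, hk, -⟩ := exists_prime_pow hF
    have : Fact p'.Prime := ⟨hp'⟩
    have hcL' : CharP (AlgebraicClosure F) p' :=
      charP_of_injective_algebraMap (algebraMap F (AlgebraicClosure F)).injective p'
    have hcE : ExpChar (AlgebraicClosure F) p' := ExpChar.prime hp'
    intro x y hxy
    apply iterateFrobenius_inj (AlgebraicClosure F) p' k
    rw [iterateFrobenius_def, iterateFrobenius_def, ← hk]
    exact hxy
  obtain ⟨k, hk, c, hc⟩ := exists_pow (p := p) (two_le hF) hq hα hβ hγ hprod hdet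
    ((hroot _).1 (root_ph hF hM hα ((hroot _).2 (Or.inl rfl))))
    ((hroot _).1 (root_ph hF hM hβ ((hroot _).2 (Or.inr (Or.inl rfl)))))
    ((hroot _).1 (root_ph hF hM hγ ((hroot _).2 (Or.inr (Or.inr rfl)))))
  refine ⟨k, hk, mem_center_of (scalar_descend (L := AlgebraicClosure F) (c := c) ?_)⟩
  rw [mat_pow, ← hc, hN]
  have h3 : ∀ M : Matrix (Fin 3) (Fin 3) F, M.map (algebraMap F (AlgebraicClosure F)) =
    (algebraMap F (AlgebraicClosure F)).mapMatrix M := fun _ => rfl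
  rw [h3, h3, map_pow]

/-- **Upper bound for the element orders of `PSU_3(q)`.** -/
theorem orderOf_dvd (hF : Fintype.card F = q ^ 2) (p : ℕ) [Fact p.Prime] [CharP F p] (x : PSU 3 F q) :
    orderOf x ∣ q + 1 ∨ orderOf x ∣ p * ((q + 1) / Nat.gcd 3 (q + 1)) ∨
      orderOf x ∣ (q ^ 2 - 1) / Nat.gcd 3 (q + 1) ∨ orderOf x ∣ (q ^ 2 - q + 1) / Nat.gcd 3 (q + 1) ∨
        (p = 2 ∧ orderOf x ∣ 4) := by
  obtain ⟨g, rfl⟩ := QuotientGroup.mk_surjective x
  obtain ⟨k, hk, h⟩ := exists_pow_center hF p g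
  have h1 : orderOf (QuotientGroup.mk g : PSU 3 F q) ∣ k := by
    rw [orderOf_dvd_iff_pow_eq_one, ← QuotientGroup.mk_pow, QuotientGroup.eq_one_iff]
    exact h
  rcases hk with rfl | rfl | rfl | rfl | ⟨hp, rfl⟩
  · exact Or.inl h1
  · exact Or.inr (Or.inl h1)
  · exact Or.inr (Or.inr (Or.inl h1))
  · exact Or.inr (Or.inr (Or.inr (Or.inl h1)))
  · exact Or.inr (Or.inr (Or.inr (Or.inr ⟨hp, h1⟩)))

end group

end Cfsg.Agent.H124.SUThreeEig

private theorem dce_fb5d4332269c : _root_.True := by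
  try have : _root_.True := by simp only [_root_.Cfsg.Agent.H124.SUThreeEig.ph.eq_1]
  exact _root_.True.intro
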