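import Cfsg.Agent.H124.SUThree
import Cfsg.Agent.Involutions.PairCount
import Cfsg.Agent.S0278
set_option linter.all false

/-!
# The involutions of `SU_3(q)`, `q` odd: one class, order of the centralizer, third common involution
-/

set_option autoImplicit false

namespace Cfsg.Agent.H124.SUThree

open Matrix Cfsg Cfsg.Agent.LieClassical.HermBasic Cfsg.Agent.LieClassical.HermSiegel
  Cfsg.Agent.LieClassical.HermCount

variable {F : Type*} [Field F] [Fintype F] {q : ℕ} {t : SU 3 F q}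

/-- one class of involutions -/
theorem exists_conj (hF : Fintype.card F = q ^ 2) (h2 : (2 : F) ≠ 0) (ht : t ≠ 1) (ht2 : t * t = 1)
    {x : SU 3 F q} (hx1 : x ≠ 1) (hx2 : x * x = 1) : ∃ g : SU 3 F q, g * t * g⁻¹ = x := by
  obtain ⟨v, hv, htv⟩ := exists_ref hF h2 ht2 ht
  obtain ⟨w, hw, hxw⟩ := exists_ref hF h2 hx2 hx1
  obtain ⟨a, ha⟩ := exists_map hF hv
  obtain ⟨b, hb⟩ := exists_map hF hw
  refine ⟨b * a⁻¹, ?_⟩
  have h3 := htv.conj (x := b * a⁻¹)
  rw [act_mul, ← ha, act_inv_act, hb] at h3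
  exact h3.eq hxw

theorem card_centralizer (hF : Fintype.card F = q ^ 2) (h2 : (2 : F) ≠ 0) (ht : t ≠ 1) (ht2 : t * t = 1) :
    Nat.card (Subgroup.centralizer ({t} : Set (SU 3 F q))) = q * (q + 1) * (q ^ 2 - 1) := by
  have h3 := Cfsg.Agent.Involutions.PairCount.card_class_mul_card_centralizer t
  have h4 : Nat.card {u : SU 3 F q // IsConj t u} = q ^ 2 * (q ^ 2 - q + 1) := by
    rw [← card_inv hF h2]
    refine Nat.card_congr (Equiv.subtypeEquivRight fun x => ?_)
    rw [isConj_iff]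
    constructor
    · rintro ⟨c, rfl⟩
      constructor
      · intro h
        apply ht
        rwa [mul_inv_eq_one, mul_eq_left] at h
      · calc c * t * c⁻¹ * (c * t * c⁻¹) = c * (t * t) * c⁻¹ := by group
          _ = 1 := by rw [ht2, mul_one, mul_inv_cancel]
    · rintro ⟨h5, h6⟩
      exact exists_conj hF h2 ht ht2 h5 h6
  have h5 := Cfsg.Agent.S0278.result hF 3 (by norm_num)
  rw [h4] at h3
  rw [← h3, Finset.prod_range_succ, Finset.prod_range_succ, Finset.prod_range_one, if_pos (by decide),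
    if_neg (by decide), if_pos (by decide)] at h5
  set N := Nat.card (Subgroup.centralizer ({t} : Set (SU 3 F q)))
  have hq := two_le hF
  obtain ⟨m, rfl⟩ : ∃ m, q = m + 1 := ⟨q - 1, by omega⟩
  have h7 : (m + 1) ^ 2 - 1 = m * (m + 2) := by
    rw [Nat.sub_eq_iff_eq_add (by nlinarith)]; ring
  have h8 : (m + 1) ^ 2 - (m + 1) = (m + 1) * m := by
    rw [Nat.sub_eq_iff_eq_add (by nlinarith)]; ring
  norm_num at h5
  rw [h7, h8] at h5
  rw [h7]
  have h9 : 0 < (m + 1 + 1) * ((m + 1) ^ 2 * ((m + 1) * m + 1)) := by positivity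
  apply Nat.eq_of_mul_eq_mul_left h9
  calc (m + 1 + 1) * ((m + 1) ^ 2 * ((m + 1) * m + 1)) * N
      = (m + 1 + 1) * ((m + 1) ^ 2 * ((m + 1) * m + 1) * N) := by ring
    _ = _ := by rw [h5]; ring

/-- the common neighbours of two commuting involutions -/
theorem card_common (hF : Fintype.card F = q ^ 2) (h2 : (2 : F) ≠ 0) (ht : t ≠ 1) (ht2 : t * t = 1)
    {x : SU 3 F q} (hx1 : x ≠ 1) (hx2 : x * x = 1) (hxt : x ≠ t) (hc : Commute t x) :
    Nat.card {y : SU 3 F q // y ≠ 1 ∧ y * y = 1 ∧ y ≠ t ∧ y ≠ x ∧ Commute t y ∧ Commute x y} = 1 := by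
  obtain ⟨v, hv, htv⟩ := exists_ref hF h2 ht2 ht
  obtain ⟨w, hw, hxw⟩ := exists_ref hF h2 hx2 hx1
  have hwv : hermForm 3 F q w v = 0 := (cond_one hF h2 htv hxw hv hw).1 ⟨hxt, hc⟩
  have hvw := herm_eq_zero_swap hF hwv
  have key : ∀ y : SU 3 F q, y ≠ 1 → y * y = 1 → y ≠ t → y ≠ x → Commute t y → Commute x y → y = t * x := by
    intro y hy1 hy2 hyt hyx hty hxy
    obtain ⟨z, hz, hyz⟩ := exists_ref hF h2 hy2 hy1
    have hzv : hermForm 3 F q z v = 0 := (cond_one hF h2 htv hyz hv hz).1 ⟨hyt, hty⟩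
    have hzw : hermForm 3 F q z w = 0 := (cond_one hF h2 hxw hyz hw hz).1 ⟨hyx, hxy⟩
    have hvz := herm_eq_zero_swap hF hzv
    have hwz := herm_eq_zero_swap hF hzw
    have hb : ∀ i j, hermForm 3 F q ((![v, w, z] : Fin 3 → Fin 3 → F) i)
        ((![v, w, z] : Fin 3 → Fin 3 → F) j) = if i = j then 1 else 0 := by
      intro i j
      fin_cases i <;> fin_cases j <;> simp [hv, hw, hz, hvz, hzv, hzw, hwz, hvw, hwv]
    apply ext_act
    intro u
    have h3 := parseval hb u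
    rw [Fin.sum_univ_three] at h3
    simp only [cons_val_zero, cons_val_one, cons_val] at h3
    have hya : ∀ c : F, act y (c • v) = -(c • v) := fun c => by
      rw [act_smul, hyz.perp hvz, smul_neg]
    rw [h3]
    simp only [act_add, act_smul, act_mul]
    rw [hyz.perp hvz, hyz.perp hwz, hyz.self hz, hxw.perp hvw, hxw.self hw, hxw.perp hzw, act_neg, act_neg,
      htv.self hv, htv.perp hwv, htv.perp hzv, neg_neg]
  have hm1 : t * x ≠ 1 := by
    intro h
    apply hxt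
    rw [mul_eq_one_iff_eq_inv] at h
    have h3 : t⁻¹ = t := inv_eq_of_mul_eq_one_left ht2
    rw [← h3, h, inv_inv]
  rw [Nat.card_eq_one_iff_unique]
  refine ⟨⟨fun a b => Subtype.ext ?_⟩, ⟨⟨t * x, hm1, ?_, ?_, ?_, ?_, ?_⟩⟩⟩
  · obtain ⟨a, h1, h3, h4, h5, h6, h7⟩ := a
    obtain ⟨b, g1, g3, g4, g5, g6, g7⟩ := b
    exact (key a h1 h3 h4 h5 h6 h7).trans (key b g1 g3 g4 g5 g6 g7).symm
  · calc t * x * (t * x) = t * (x * t) * x := by group
      _ = t * (t * x) * x := by rw [hc.eq]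
      _ = (t * t) * (x * x) := by group
      _ = 1 := by rw [ht2, hx2, mul_one]
  · intro h
    exact hx1 (mul_eq_left.1 h)
  · intro h
    exact ht (mul_eq_right.1 h)
  · exact (Commute.refl t).mul_right hc
  · exact (hc.symm).mul_right (Commute.refl x)

end Cfsg.Agent.H124.SUThree
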